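import Groth.Agent.SymAlg.ProjProper
import Groth.Agent.CycPB.ProjExist
import Groth.Agent.CycPB.BundleSmooth
import Groth.Agent.CycPB.VBundle
import Groth.Agent.SGA6Ext.Model
import Groth.Agent.QC.Closure
import Groth.Agent.S8292
import Groth.Agent.S1109
import Groth.Agent.S4991
import Groth.Agent.KoszulLib.SchNoeth
import Groth.Agent.TorCI.RegularStalk
import Groth.Prelude.Def_RegImm

/-!
Projective morphisms to regular separated schemes embed into smooth projective bundles.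
-/

set_option autoImplicit false
set_option linter.style.haveILetI false
set_option backward.isDefEq.respectTransparency false
set_option maxHeartbeats 2000000

universe u

open CategoryTheory CategoryTheory.Limits DirectSum AlgebraicGeometry TopologicalSpace Opposite
open scoped HomogeneousIdeal

noncomputable section

namespace Groth.Agent.RegFactor

open Groth.Agent.SymAlg

variable {Y : Scheme.{u}}

/-- A separated regular Noetherian scheme has the resolution property. -/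
theorem hasResolutionProperty [IsNoetherian Y] [Y.IsSeparated]
    (hY : ∀ y : Y, IsRegularLocalRing (Y.presheaf.stalk y)) : PerfAux.HasResolutionProperty Y :=
  S1109.result Y hY fun _ _ hU hV => hU.inf hV

/-- Positive local rank of `E ⊞ O`. -/
theorem rank_ne_zero_biprod (E : Y.Modules) {U : Y.Opens} {y : Y} (hy : y ∈ U) {m : ℕ}
    (e : (E ⊞ Coh.structureModule Y).restrict U.ι ≅ FlatMod.freeMod (U : Scheme.{u}) m) : m ≠ 0 := by
  rintro rfl
  let F := Scheme.Modules.restrictFunctor U.ι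
  have hz : IsZero (F.obj (E ⊞ Coh.structureModule Y)) := by
    refine IsZero.of_iso ?_ e
    exact (IsZero.iff_id_eq_zero _).2 (Sigma.hom_ext _ _ fun b => b.elim0)
  have h1 : IsZero (F.obj (Coh.structureModule Y)) := by
    refine (IsZero.iff_id_eq_zero _).2 ?_
    rw [← CategoryTheory.Functor.map_id, ← biprod.inr_snd (X := E) (Y := Coh.structureModule Y), Functor.map_comp,
      hz.eq_of_tgt (F.map biprod.inr) 0, zero_comp]
  have h2 := h1.of_iso (Scheme.Modules.restrictUnitIso U.ι).symm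
  haveI : Subsingleton Γ(U.toScheme, ⊤) := by
    refine subsingleton_of_forall_eq 0 fun a => ?_
    exact congrArg (fun g : Coh.structureModule U.toScheme ⟶ Coh.structureModule U.toScheme =>
      (g.app ⊤) a) (h2.eq_of_src (𝟙 _) 0)
  have h3 := congrArg (U.toScheme.presheaf.germ ⊤ ⟨y, hy⟩ trivial) (Subsingleton.elim (1 : Γ(U.toScheme, ⊤)) 0)
  rw [map_one, map_zero] at h3
  exact one_ne_zero h3

/-- The relative `Proj` of the symmetric algebra of a bundle of positive rank is smooth. -/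
theorem smooth_relProj {E : Y.Modules} (hE : FlatMod.IsFinLocFree E) (hpos : ∀ (y : Y) (U : Y.Opens) (m : ℕ),
      y ∈ U → Nonempty (E.restrict U.ι ≅ FlatMod.freeMod (U : Scheme.{u}) m) → m ≠ 0)
    {𝒯 : RelProj.QCGrAlg Y} {j : E ⟶ 𝒯.toModule} (hj : RelProj.IsGrSymAlg E 𝒯 j) {P : Scheme.{u}} {p : P ⟶ Y}
    {ch : ∀ (U : Y.Opens) (hU : IsAffineOpen U), ((p ⁻¹ᵁ U : P.Opens) : Scheme.{u}) ≅ Proj (𝒯.deg U hU)}
    (hP : RelProj.IsRelProj 𝒯 p ch) : Smooth p := by
  have hq : Coh.IsQCoh E := LocFree.isQCoh_of_isFinLocFree hE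
  haveI : E.IsQuasicoherent := hq
  obtain ⟨O, lam, hO1⟩ := S8284.result 𝒯 p ch hP 1
  have hO1' := (RelTilde.isRelTwist_iff 𝒯 1 O lam).mp hO1
  have hO : PicF.IsInvertible O := RelTilde.isInvertible_of_isGenDegOne hO1' (SymAlg.isGenDegOne_sym hj)
  obtain ⟨φ, hφ⟩ := SymAlg.exists_isFund hj hP hO1'
  have key : ∀ y : Y, ∃ U : Y.Opens, y ∈ U ∧ Smooth (pullback.snd p U.ι) := by
    intro y
    obtain ⟨W, m, hyW, ⟨e⟩⟩ := hE y
    obtain ⟨n, rfl⟩ := Nat.exists_eq_succ_of_ne_zero (hpos y W m hyW ⟨e⟩)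
    obtain ⟨D, hD, hyD, hDW⟩ := exists_isAffineOpen_mem_and_subset (show y ∈ W from hyW)
    obtain ⟨b⟩ := CycPB.exists_basis_of_free e hD hDW hq
    obtain ⟨Φ, sq, -⟩ := CycPB.isProjBundle_chart hq hj hP hO
      (fun U hU e y => (hφ U hU e y).trans (Localization.mk_one_eq_algebraMap _)) hD b
    have sq' : IsPullback Φ (CohB1.ProjSpace.toSpec n Γ(Y, D) ≫ hD.isoSpec.inv) p D.ι := by
      refine sq.of_iso (Iso.refl _) (Iso.refl _) hD.isoSpec.symm (Iso.refl _) ?_ ?_ ?_ ?_ <;> simp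
    haveI := CycPB.smooth_toSpec n Γ(Y, D)
    refine ⟨D, hyD, ?_⟩
    rw [← sq'.isoPullback_inv_snd]
    infer_instance
  choose U hyU hU using key
  refine IsZariskiLocalAtTarget.of_openCover (Y.openCoverOfIsOpenCover U ?_) fun y => ?_
  · exact eq_top_iff.2 fun y _ => Opens.mem_iSup.2 ⟨y, hyU y⟩
  · exact hU y

set_option maxHeartbeats 4000000 in
/-- A projective morphism to a separated regular Noetherian scheme embeds into a smooth projective one. -/
theorem exists_embedding [IsNoetherian Y] [Y.IsSeparated] (hY : ∀ y : Y, IsRegularLocalRing (Y.presheaf.stalk y))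
    {X : Scheme.{u}} {f : X ⟶ Y} (h : RelProj.IsProjective f) :
    ∃ (P : Scheme.{u}) (p : P ⟶ Y) (i : X ⟶ P),
      IsClosedImmersion i ∧ Smooth p ∧ RelProj.IsProjective p ∧ i ≫ p = f := by
  classical
  obtain ⟨𝒮, P, p, chart, ε, hgen, hf1, hP, hεp⟩ := h
  have hMq : Coh.IsQCoh (degPiece 𝒮 1) := isQCoh_degPiece 𝒮 1
  haveI : (degPiece 𝒮 1).IsQuasicoherent := hMq
  have hMft : CohB1.IsFT (degPiece 𝒮 1) := isFT_degPiece 𝒮 1 hf1
  obtain ⟨E₀, π, hE₀, hπ⟩ := hasResolutionProperty hY _ hMq hMft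
  let E := E₀ ⊞ Coh.structureModule Y
  have hE : FlatMod.IsFinLocFree E :=
    VBTwo.isFinLocFree_middle (ShortComplex.Splitting.ofHasBinaryBiproduct E₀ (Coh.structureModule Y)).shortExact hE₀ (SGA6Ext.finLocFree_unit Y)
  have hEq : Coh.IsQCoh E := LocFree.isQCoh_of_isFinLocFree hE
  haveI : E.IsQuasicoherent := hEq
  let a : E ⟶ degPiece 𝒮 1 := biprod.desc π 0
  haveI := hπ
  haveI : Epi a := by
    haveI : Epi ((biprod.inl : E₀ ⟶ E) ≫ a) := by rw [biprod.inl_desc]; exact hπ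
    exact epi_of_epi (biprod.inl : E₀ ⟶ E) a
  let u : E ⟶ 𝒮.toModule := a ≫ degIncl 𝒮 1
  have hu1 : ∀ (U : Y.Opens) (hU : IsAffineOpen U) (x : Γ(E, U)), (u.app U) x ∈ 𝒮.deg U hU 1 :=
    fun U hU x => degIncl_mem 𝒮 1 hU (a.app U x)
  have hsurj : ∀ (U : Y.Opens) (hU : IsAffineOpen U) (s : 𝒮.presheaf.obj (op U)), s ∈ 𝒮.deg U hU 1 →
      ∃ x : Γ(E, U), (u.app U) x = s := fun U hU s hs => by
    obtain ⟨t, ht⟩ := exists_degIncl 𝒮 1 hU hs
    obtain ⟨x, hx⟩ := QC.app_surjective_of_epi hU hEq hMq a t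
    refine ⟨x, ?_⟩
    show (degIncl 𝒮 1).app U (a.app U x) = s
    rw [hx]
    exact ht
  obtain ⟨𝒯, j, hT⟩ := exists_isGrSymAlg hEq
  obtain ⟨φ, hφ, hju⟩ := exists_gradedHom hEq hT u hu1
  have hirr : ∀ (U : Y.Opens) (hU : IsAffineOpen U),
      (𝒮.deg U hU)₊ ≤ ((𝒯.deg U hU)₊).map (RelProj.gradedHomAt φ hφ U hU) :=
    irrelevant_le_map_of_surj hφ hgen fun U hU s hs => by
      obtain ⟨x, hx⟩ := hsurj U hU s hs
      exact ⟨j.app U x, hT.2 U hU x, (congr(($hju).app U x)).trans hx⟩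
  obtain ⟨PT, pT, chT, hPT⟩ := RelProjLib.exists_isRelProj 𝒯
  obtain ⟨k, hk, -⟩ := RelProjLib.existsUnique_relProjMap (φ := φ) (hφ := hφ) (hirr := hirr) hPT hP
  haveI : IsClosedImmersion k := Groth.Agent.S8292.result 𝒮 𝒯 hgen _ hEq u hu1 hsurj j hT φ hφ hju hirr pT p chT
    chart hPT hP k hk
  refine ⟨PT, pT, ε.hom ≫ k, inferInstance, smooth_relProj hE ?_ hT hPT, ?_, ?_⟩
  · intro y U m hy ⟨e⟩
    exact rank_ne_zero_biprod E₀ hy e
  · exact isProjective_of_closedImm_bundle hEq (LocFree.isFT_of_isFinLocFree hE) hT hPT (𝟙 PT) (Category.id_comp pT)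
  · rw [Category.assoc, RelProjLib.relProjMap_over hPT hP hk, hεp]

/-- A closed immersion of regular schemes is a regular immersion. -/
theorem isRegularImmersion_of_regular {X P : Scheme.{u}} [IsLocallyNoetherian P] (i : X ⟶ P) [IsClosedImmersion i]
    (hX : ∀ x : X, IsRegularLocalRing (X.presheaf.stalk x))
    (hP : ∀ x : P, IsRegularLocalRing (P.presheaf.stalk x)) :
    RegImm.IsRegularImmersion RegImm.Kind.regular i := by
  refine ⟨inferInstance, fun z => (KoszulLib.isRegularImmersionAt_iff_stalk _ i z).2 ?_⟩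
  haveI := hX z
  exact (TorCI.regular_ker_iff_isRegularLocalRing (i.stalkMap z).hom (i.stalkMap_surjective z)).2 (hP (i z))

/-- The total space of a smooth scheme over a regular base is regular. -/
theorem regular_of_smooth [IsLocallyNoetherian Y] (hY : ∀ y : Y, IsRegularLocalRing (Y.presheaf.stalk y))
    {P : Scheme.{u}} (p : P ⟶ Y) [Smooth p] (x : P) : IsRegularLocalRing (P.presheaf.stalk x) :=
  (S4991.result p x ⟨⊤, trivial, inferInstance⟩).2 (hY _)

end Groth.Agent.RegFactor
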