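import Groth.Agent.RegFactor.Embed

/-!
Quasi-projective morphisms to regular separated schemes factor through smooth quasi-projective ones.
-/

set_option autoImplicit false
set_option linter.style.haveILetI false
set_option backward.isDefEq.respectTransparency false

universe u

open CategoryTheory CategoryTheory.Limits AlgebraicGeometry TopologicalSpace

noncomputable section

namespace Groth.Agent.RegFactor

theorem exists_qproj_factor {X S : Scheme.{u}} (f : X ⟶ S) [IsNoetherian S] [S.IsSeparated]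
    (hS : ∀ s : S, IsRegularLocalRing (S.presheaf.stalk s))
    (hf : ∃ (Z : Scheme.{u}) (v : X ⟶ Z) (q : Z ⟶ S), IsOpenImmersion v ∧ RelProj.IsProjective q ∧ v ≫ q = f) :
    ∃ (W : Scheme.{u}) (i : X ⟶ W) (p : W ⟶ S), IsClosedImmersion i ∧ Smooth p ∧
      (∃ (P : Scheme.{u}) (v : W ⟶ P) (q : P ⟶ S), IsOpenImmersion v ∧ RelProj.IsProjective q ∧ v ≫ q = p) ∧
      i ≫ p = f ∧ IsLocallyNoetherian W := by
  obtain ⟨Z, v, q, hv, hq, hvq⟩ := hf
  haveI := hv
  obtain ⟨P, p, k, hk, hp, hproj, hkp⟩ := exists_embedding hS hq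
  haveI := hk
  haveI := hp
  let U : P.Opens := ⟨(k '' (v.opensRange : Set Z)ᶜ)ᶜ,
    (k.isClosedEmbedding.isClosedMap _ v.opensRange.2.isClosed_compl).isOpen_compl⟩
  have hU : k ⁻¹ᵁ U = v.opensRange := by
    ext z
    show k z ∈ (k '' (v.opensRange : Set Z)ᶜ)ᶜ ↔ z ∈ v.opensRange
    rw [Set.mem_compl_iff, k.isClosedEmbedding.injective.mem_set_image, Set.mem_compl_iff, not_not]
    rfl
  let e : X ≅ (k ⁻¹ᵁ U : Z.Opens).toScheme := v.isoOpensRange ≪≫ Z.isoOfEq hU.symm
  have he : e.hom ≫ (k ⁻¹ᵁ U).ι = v := by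
    simp [e]
  haveI : IsClosedImmersion (k ∣_ U) :=
    MorphismProperty.of_isPullback (isPullback_morphismRestrict k U).flip hk
  haveI : IsLocallyNoetherian P := LocallyOfFiniteType.isLocallyNoetherian p
  refine ⟨U.toScheme, e.hom ≫ k ∣_ U, U.ι ≫ p, inferInstance, inferInstance,
    ⟨P, U.ι, p, inferInstance, hproj, rfl⟩, ?_, inferInstance⟩
  rw [Category.assoc, ← Category.assoc (k ∣_ U), morphismRestrict_ι, Category.assoc, hkp, ← Category.assoc, he, hvq]

end Groth.Agent.RegFactor
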